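import Cfsg.Agent.NormalRank.SpRankBound

/-!
Elementary abelian 2-subgroups normalised by block elements of order eight.
-/

set_option autoImplicit false

namespace Cfsg.Agent.NormalRank

open Module Matrix

variable {F : Type*} [Field F] {m ε : ℕ}

/-- `d` on the plane `i`, the identity elsewhere -/
noncomputable def blockMat (d : Matrix (Fin 2) (Fin 2) F) (i : Fin m) :
    Matrix ((Fin 2 × Fin m) ⊕ Fin ε) ((Fin 2 × Fin m) ⊕ Fin ε) F :=
  Matrix.fromBlocks (Matrix.blockDiagonal fun k => if k = i then d else 1) 0 0 1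

/-- the component on the plane `i` -/
def comp (i : Fin m) : (((Fin 2 × Fin m) ⊕ Fin ε) → F) →ₗ[F] (Fin 2 → F) where
  toFun v := fun r => v (Sum.inl (r, i))
  map_add' _ _ := rfl
  map_smul' _ _ := rfl

theorem blockDiagonal_mulVec {o : Type*} [Fintype o] [DecidableEq o] (M : o → Matrix (Fin 2) (Fin 2) F)
    (w : Fin 2 × o → F) (r : Fin 2) (k : o) :
    (Matrix.blockDiagonal M *ᵥ w) (r, k) = (M k *ᵥ fun r' => w (r', k)) r := by
  simp only [Matrix.mulVec, dotProduct, Fintype.sum_prod_type, Matrix.blockDiagonal_apply, ite_mul, zero_mul,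
    Finset.sum_ite_eq, Finset.mem_univ, if_true]

theorem blockMat_comp (d : Matrix (Fin 2) (Fin 2) F) (i : Fin m) (v : ((Fin 2 × Fin m) ⊕ Fin ε) → F) :
    comp i (blockMat d i *ᵥ v) = d *ᵥ comp i v := by
  funext r
  show (blockMat d i *ᵥ v) (Sum.inl (r, i)) = _
  rw [blockMat, Matrix.fromBlocks_mulVec, Sum.elim_inl, Matrix.zero_mulVec, add_zero, blockDiagonal_mulVec,
    if_pos rfl]
  rfl

theorem blockMat_fix (d : Matrix (Fin 2) (Fin 2) F) (i : Fin m) (v : ((Fin 2 × Fin m) ⊕ Fin ε) → F)
    (x : (Fin 2 × Fin m) ⊕ Fin ε) (hx : ∀ r, x ≠ Sum.inl (r, i)) : (blockMat d i *ᵥ v) x = v x := by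
  rw [blockMat, Matrix.fromBlocks_mulVec]
  rcases x with ⟨r, k⟩ | j
  · rw [Sum.elim_inl, Matrix.zero_mulVec, add_zero, blockDiagonal_mulVec,
      if_neg (fun h => hx r (by rw [h])), Matrix.one_mulVec]
    rfl
  · rw [Sum.elim_inr, Matrix.zero_mulVec, zero_add, Matrix.one_mulVec]
    rfl

theorem bound_of_blocks (h2 : (2 : F) ≠ 0) (hns : ∀ x : F, x ^ 2 ≠ -1) {G : Type*} [Group G]
    (toM : G →* Matrix ((Fin 2 × Fin m) ⊕ Fin ε) ((Fin 2 × Fin m) ⊕ Fin ε) F) (hinj : Function.Injective toM)
    (E : Subgroup G) (hE : IsMulCommutative E) (hexp : ∀ a ∈ E, a ^ 2 = 1) (d : Matrix (Fin 2) (Fin 2) F)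
    (hd : d ^ 4 = -1) (x : Fin m → G) (hx : ∀ i, toM (x i) = blockMat d i) (hx8 : ∀ i, x i ^ 8 = 1)
    (hn1 : ∀ i, ∀ a ∈ E, (x i)⁻¹ * a * x i ∈ E) (hn2 : ∀ i, ∀ a ∈ E, x i * a * (x i)⁻¹ ∈ E) :
    Nat.card E ≤ 2 ^ (m + ε) := by
  classical
  have hne : (-1 : F) ≠ 1 := fun h => h2 (by linear_combination -h)
  obtain ⟨b, s, hs, hb, -⟩ := exists_sign_map h2 toM hinj E hE hexp
  let N := Fintype.card ((Fin 2 × Fin m) ⊕ Fin ε)
  let χ : Fin N → (E → Bool) := fun j a => s a j
  let sg : Bool → F := fun t => if t then (-1 : F) else 1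
  have hsg : ∀ t t', sg t = sg t' → t = t' := fun t t' h => by
    cases t <;> cases t' <;> simp [sg, hne, hne.symm] at h ⊢
  have hweight : ∀ (v : ((Fin 2 × Fin m) ⊕ Fin ε) → F) (c : E → Bool),
      (∀ a : E, toM a.1 *ᵥ v = sg (c a) • v) → ∀ k, b.repr v k ≠ 0 → χ k = c := by
    intro v c hv k hk
    funext a
    have h1 : b.repr (toM a.1 *ᵥ v) k = sg (s a k) * b.repr v k := by
      conv_lhs => rw [← b.sum_repr v, Matrix.mulVec_sum, map_sum, Finsupp.finset_sum_apply]
      rw [Finset.sum_eq_single k]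
      · rw [Matrix.mulVec_smul, hb, smul_smul, map_smul, Finsupp.smul_apply, Basis.repr_self,
          Finsupp.single_eq_same, smul_eq_mul, mul_one, mul_comm]
      · intro l _ hl
        rw [Matrix.mulVec_smul, hb, smul_smul, map_smul, Finsupp.smul_apply, Basis.repr_self,
          Finsupp.single_eq_of_ne (Ne.symm hl), smul_zero]
      · simp
    rw [hv, map_smul, Finsupp.smul_apply, smul_eq_mul] at h1
    exact (hsg _ _ (mul_right_cancel₀ hk h1)).symm
  let single : Fin N → Prop := fun j => ∀ k, χ k = χ j → k = j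
  -- the block elements permute the one-dimensional weight lines
  have hperm : ∀ i j, single j → ∃ j', single j' ∧ ∃ μ : F, μ ≠ 0 ∧ toM (x i) *ᵥ b j = μ • b j' := by
    intro i j hj
    set g := x i with hg
    have inv_apply : ∀ v, toM g⁻¹ *ᵥ (toM g *ᵥ v) = v := fun v => by
      rw [Matrix.mulVec_mulVec, ← map_mul, inv_mul_cancel, map_one, Matrix.one_mulVec]
    have apply_inv : ∀ v, toM g *ᵥ (toM g⁻¹ *ᵥ v) = v := fun v => by
      rw [Matrix.mulVec_mulVec, ← map_mul, mul_inv_cancel, map_one, Matrix.one_mulVec]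
    set c : E → Bool := fun a => s ⟨g⁻¹ * a.1 * g, hn1 i _ a.2⟩ j with hc
    have hc' : ∀ a : E, toM a.1 *ᵥ (toM g *ᵥ b j) = sg (c a) • (toM g *ᵥ b j) := fun a => by
      rw [← Matrix.mulVec_smul, ← hb ⟨g⁻¹ * a.1 * g, hn1 i _ a.2⟩ j, Matrix.mulVec_mulVec, Matrix.mulVec_mulVec,
        ← map_mul, ← map_mul]
      simp [mul_assoc]
    have hline : ∀ k, χ k = c → ∃ ν : F, ν ≠ 0 ∧ b k = ν • (toM g *ᵥ b j) := by
      intro k hk
      have hw : ∀ a : E, toM a.1 *ᵥ (toM g⁻¹ *ᵥ b k) = sg (s a j) • (toM g⁻¹ *ᵥ b k) := fun a => by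
        have h1 := hb ⟨g * a.1 * g⁻¹, hn2 i _ a.2⟩ k
        have h3 : s ⟨g * a.1 * g⁻¹, hn2 i _ a.2⟩ k = s a j := by
          show χ k ⟨g * a.1 * g⁻¹, hn2 i _ a.2⟩ = _
          rw [hk, hc]
          show s _ j = _
          congr
          simp [mul_assoc]
        rw [h3] at h1
        show _ = (if s a j then (-1 : F) else 1) • _
        rw [← Matrix.mulVec_smul, ← h1, Matrix.mulVec_mulVec, Matrix.mulVec_mulVec, ← map_mul, ← map_mul]
        simp [mul_assoc]
      have hsupp : ∀ l, b.repr (toM g⁻¹ *ᵥ b k) l ≠ 0 → l = j := fun l hl => hj l (hweight _ (χ j) hw l hl)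
      have heq : toM g⁻¹ *ᵥ b k = b.repr (toM g⁻¹ *ᵥ b k) j • b j := by
        conv_lhs => rw [← b.sum_repr (toM g⁻¹ *ᵥ b k)]
        refine Finset.sum_eq_single j (fun l _ hl => ?_) (by simp)
        rw [show b.repr (toM g⁻¹ *ᵥ b k) l = 0 from not_not.1 fun h => hl (hsupp l h), zero_smul]
      have heq' : b k = b.repr (toM g⁻¹ *ᵥ b k) j • (toM g *ᵥ b j) := by
        rw [← Matrix.mulVec_smul, ← heq, apply_inv]
      refine ⟨_, fun h => ?_, heq'⟩
      rw [h, zero_smul] at heq'
      exact b.ne_zero k heq'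
    obtain ⟨j', hj'⟩ : ∃ j', b.repr (toM g *ᵥ b j) j' ≠ 0 := by
      by_contra h
      push Not at h
      have h0 : toM g *ᵥ b j = 0 := b.repr.injective (Finsupp.ext fun k => by simp [h k])
      have h1 := inv_apply (b j)
      rw [h0, Matrix.mulVec_zero] at h1
      exact b.ne_zero j h1.symm
    have hcj := hweight _ c hc' j' hj'
    obtain ⟨ν, hν, hbν⟩ := hline j' hcj
    refine ⟨j', fun k hk => ?_, ν⁻¹, inv_ne_zero hν, by rw [hbν, smul_smul, inv_mul_cancel₀ hν, one_smul]⟩
    obtain ⟨ν', hν', hbν'⟩ := hline k (hk.trans hcj)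
    by_contra hkj
    have h0 : ν' • b j' - ν • b k = 0 := by rw [hbν, hbν', smul_smul, smul_smul, mul_comm, sub_self]
    have h1 := congrArg (fun v => b.repr v k) h0
    simp [Finsupp.single_eq_of_ne, Ne.symm hkj] at h1
    exact hν h1
  -- the fourth powers fix these lines
  have hfix : ∀ i j, single j → (toM (x i)) ^ 4 *ᵥ b j = b j := by
    intro i j hj
    choose π hπs μ hμ hπ using fun j : {j // single j} => hperm i j.1 j.2
    let π' : {j // single j} → {j // single j} := fun j => ⟨π j, hπs j⟩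
    have hstep : ∀ j : {j // single j}, toM (x i) *ᵥ b j.1 = μ j • b (π' j).1 := hπ
    have hiter : ∀ (k : ℕ) (j : {j // single j}), ∃ ν : F, (toM (x i)) ^ k *ᵥ b j.1 = ν • b (π'^[k] j).1 := by
      intro k
      induction k with
      | zero => exact fun j => ⟨1, by simp⟩
      | succ k ih =>
        intro j
        obtain ⟨ν, hν⟩ := ih j
        refine ⟨ν * μ (π'^[k] j), ?_⟩
        rw [pow_succ', ← Matrix.mulVec_mulVec, hν, Matrix.mulVec_smul, hstep, smul_smul,
          Function.iterate_succ_apply']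
    have h8 : ∀ j : {j // single j}, π'^[8] j = j := fun j => by
      obtain ⟨ν, hν⟩ := hiter 8 j
      rw [← map_pow, hx8, map_one, Matrix.one_mulVec] at hν
      generalize π'^[8] j = q at hν ⊢
      have h1 := congrArg (fun v => b.repr v j.1) hν
      by_contra hcon
      have hqj : q.1 ≠ j.1 := fun h => hcon (Subtype.ext h)
      simp [Ne.symm hqj] at h1
    set j0 : {j // single j} := ⟨j, hj⟩ with hj0
    have hinj' : Function.Injective π' := fun a c h => by
      have h' := congrArg (π'^[7]) h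
      rwa [← Function.iterate_succ_apply, ← Function.iterate_succ_apply, h8, h8] at h' 
    by_cases h2' : π' (π' j0) = j0
    · obtain ⟨ν, hν⟩ := hiter 2 j0
      rw [show π'^[2] j0 = j0 from h2'] at hν
      have hk : ∀ k : ℕ, (toM (x i)) ^ (2 * k) *ᵥ b j = ν ^ k • b j := fun k => by
        induction k with
        | zero => simp
        | succ k ih =>
          rw [mul_add, mul_one, pow_add, ← Matrix.mulVec_mulVec, show (toM (x i)) ^ 2 *ᵥ b j = ν • b j from hν,
            Matrix.mulVec_smul, ih, smul_smul, pow_succ']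
      have h4 : ν ^ 4 = 1 := by
        have h := hk 4
        rw [← map_pow, hx8, map_one, Matrix.one_mulVec] at h
        exact smul_left_injective F (b.ne_zero j) (show ν ^ 4 • b j = (1 : F) • b j by rw [one_smul, ← h])
      have hν2 : ν ^ 2 = 1 := by
        have : (ν ^ 2 - 1) * (ν ^ 2 + 1) = 0 := by linear_combination h4
        rcases mul_eq_zero.1 this with h | h
        · exact sub_eq_zero.1 h
        · exact absurd (eq_neg_of_add_eq_zero_left h) (hns ν)
      have h := hk 2
      rwa [hν2, one_smul] at h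
    · exfalso
      set j1 := π' j0 with hj1
      set j2 := π' j1 with hj2
      set j3 := π' j2 with hj3
      have h01 : j0 ≠ j1 := fun h => h2' (by rw [hj2, ← h, ← hj1, ← h])
      have h02 : j0 ≠ j2 := Ne.symm h2'
      have h12 : j1 ≠ j2 := fun h => h01 (hinj' h)
      have h13 : j1 ≠ j3 := fun h => h02 (hinj' h)
      have h23 : j2 ≠ j3 := fun h => h12 (hinj' h)
      have h03 : j0 ≠ j3 := fun h => by
        have h3 : π'^[3] j0 = j0 := h.symm
        have h9 : π'^[9] j0 = j0 := by
          rw [show (9 : ℕ) = 3 + (3 + 3) from rfl, Function.iterate_add_apply, Function.iterate_add_apply, h3, h3, h3]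
        rw [Function.iterate_succ_apply', h8] at h9
        exact h01 h9.symm
      let w : Fin 3 → {j // single j} := ![j0, j1, j2]
      let u : Fin 3 → (((Fin 2 × Fin m) ⊕ Fin ε) → F) := fun k => toM (x i) *ᵥ b (w k).1 - b (w k).1
      let L : (Fin 3 → F) →ₗ[F] (Fin 2 → F) :=
        ∑ k : Fin 3, (LinearMap.proj k).smulRight (comp i (u k))
      obtain ⟨c, hcL, hc0⟩ : ∃ c, L c = 0 ∧ c ≠ 0 := by
        have : ¬ Function.Injective L := fun h => by
          have := LinearMap.finrank_le_finrank_of_injective h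
          simp at this
        rw [← LinearMap.ker_eq_bot] at this
        obtain ⟨c, hc1, hc2⟩ := (Submodule.ne_bot_iff _).1 this
        exact ⟨c, LinearMap.mem_ker.1 hc1, hc2⟩
      have hsum : ∑ k, c k • u k = 0 := by
        funext y
        by_cases hy : ∃ r, y = Sum.inl (r, i)
        · obtain ⟨r, rfl⟩ := hy
          have := congrFun hcL r
          simp only [L, LinearMap.sum_apply, LinearMap.smulRight_apply, LinearMap.proj_apply, Finset.sum_apply,
            Pi.smul_apply] at this
          simp only [Finset.sum_apply, Pi.smul_apply]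
          exact this
        · push Not at hy
          simp only [Finset.sum_apply, Pi.smul_apply, Pi.zero_apply, u, Pi.sub_apply]
          refine Finset.sum_eq_zero fun k _ => ?_
          rw [hx, blockMat_fix d i _ y hy, sub_self, smul_zero]
      rw [Fin.sum_univ_three] at hsum
      simp only [u, w, Matrix.cons_val_zero, Matrix.cons_val_one, Matrix.cons_val, hstep, ← hj1, ← hj2, ← hj3]
        at hsum
      have n01 : j0.1 ≠ j1.1 := fun h => h01 (Subtype.ext h)
      have n02 : j0.1 ≠ j2.1 := fun h => h02 (Subtype.ext h)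
      have n03 : j0.1 ≠ j3.1 := fun h => h03 (Subtype.ext h)
      have n12 : j1.1 ≠ j2.1 := fun h => h12 (Subtype.ext h)
      have n13 : j1.1 ≠ j3.1 := fun h => h13 (Subtype.ext h)
      have n23 : j2.1 ≠ j3.1 := fun h => h23 (Subtype.ext h)
      have e0 := congrArg (fun v => b.repr v j0.1) hsum
      have e1 := congrArg (fun v => b.repr v j1.1) hsum
      have e2 := congrArg (fun v => b.repr v j2.1) hsum
      simp [n01, n02, n03, n12, n13, n23, Ne.symm n01, Ne.symm n02, Ne.symm n03, Ne.symm n12, Ne.symm n13,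
        Ne.symm n23] at e0 e1 e2
      refine hc0 (funext fun k => ?_)
      have a0 : c 0 = 0 := by simpa using e0
      have a1 : c 1 = 0 := by simpa [a0] using e1
      have a2 : c 2 = 0 := by simpa [a0, a1] using e2
      fin_cases k <;> simp [a0, a1, a2]
  -- these lines lie off every plane
  have hcomp : ∀ j, single j → ∀ i, comp i (b j) = 0 := by
    intro j hj i
    have hpow : ∀ (k : ℕ) (v : ((Fin 2 × Fin m) ⊕ Fin ε) → F),
        comp i ((toM (x i)) ^ k *ᵥ v) = d ^ k *ᵥ comp i v := by
      intro k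
      induction k with
      | zero => intro v; simp
      | succ k ih =>
        intro v
        rw [pow_succ', pow_succ', ← Matrix.mulVec_mulVec, ← Matrix.mulVec_mulVec, hx, blockMat_comp, ← hx, ih]
    have h := hpow 4 (b j)
    rw [hfix i j hj, hd, Matrix.neg_mulVec, Matrix.one_mulVec] at h
    funext r
    have hr := congrFun h r
    rw [Pi.neg_apply] at hr
    have : (2 : F) * comp i (b j) r = 0 := by linear_combination hr
    exact (mul_eq_zero.1 this).resolve_left h2
  have hI : (Finset.univ.filter single).card ≤ ε := by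
    let f : {j // single j} → (Fin ε → F) := fun j l => b j.1 (Sum.inr l)
    have hf : LinearIndependent F f := by
      rw [Fintype.linearIndependent_iff]
      intro g hg
      have hli : LinearIndependent F fun j : {j // single j} => b j.1 :=
        b.linearIndependent.comp _ Subtype.val_injective
      refine Fintype.linearIndependent_iff.1 hli g (funext fun y => ?_)
      rcases y with ⟨r, k⟩ | l
      · simp only [Finset.sum_apply, Pi.smul_apply, Pi.zero_apply]
        refine Finset.sum_eq_zero fun j _ => ?_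
        rw [show b j.1 (Sum.inl (r, k)) = comp k (b j.1) r from rfl, hcomp _ j.2, Pi.zero_apply, smul_zero]
      · have := congrFun hg l
        simpa [f, Finset.sum_apply] using this
    have := hf.fintype_card_le_finrank
    rwa [Module.finrank_fin_fun, Fintype.card_subtype] at this
  let S : Finset (E → Bool) := Finset.univ.image χ
  have hS : S.card ≤ m + ε := by
    let S1 := S.filter fun c => (Finset.univ.filter fun j => χ j = c).card = 1
    have h1 : S1.card ≤ (Finset.univ.filter single).card := by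
      refine (Finset.card_le_card (t := (Finset.univ.filter single).image χ) fun c hc => ?_).trans
        Finset.card_image_le
      obtain ⟨hcS, hc1⟩ := Finset.mem_filter.1 hc
      obtain ⟨j, -, rfl⟩ := Finset.mem_image.1 hcS
      refine Finset.mem_image.2 ⟨j, Finset.mem_filter.2 ⟨Finset.mem_univ _, fun k hk => ?_⟩, rfl⟩
      exact Finset.card_le_one.1 hc1.le k (Finset.mem_filter.2 ⟨Finset.mem_univ _, hk⟩) j
        (Finset.mem_filter.2 ⟨Finset.mem_univ _, rfl⟩)
    have h2 : ∀ c ∈ S, 2 ≤ (Finset.univ.filter fun j => χ j = c).card + (if c ∈ S1 then 1 else 0) := by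
      intro c hc
      obtain ⟨j, -, rfl⟩ := Finset.mem_image.1 hc
      have : 0 < (Finset.univ.filter fun k => χ k = χ j).card := Finset.card_pos.2 ⟨j, Finset.mem_filter.2 ⟨Finset.mem_univ _, rfl⟩⟩
      by_cases h : χ j ∈ S1
      · rw [if_pos h]; omega
      · rw [if_neg h]
        have : (Finset.univ.filter fun k => χ k = χ j).card ≠ 1 := fun e => h (Finset.mem_filter.2 ⟨hc, e⟩)
        omega
    have h3 := Finset.card_nsmul_le_sum S _ 2 h2
    rw [Finset.sum_add_distrib, ← Finset.card_eq_sum_card_image χ (Finset.univ : Finset (Fin N)), Finset.card_univ,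
      Fintype.card_fin, Finset.sum_ite_mem, Finset.sum_const, smul_eq_mul, smul_eq_mul, mul_one] at h3
    have h4 : (S ∩ S1).card ≤ S1.card := Finset.card_le_card Finset.inter_subset_right
    have hN' : N = 2 * m + ε := by simp [N]
    omega
  have hinjS : Function.Injective fun a : E => fun c : S => c.1 a := by
    intro a a' h
    exact hs (funext fun j => congrFun h ⟨χ j, Finset.mem_image_of_mem χ (Finset.mem_univ j)⟩)
  refine (Nat.card_le_card_of_injective _ hinjS).trans ?_
  rw [Nat.card_fun, Nat.card_eq_fintype_card, Fintype.card_bool, Nat.card_eq_fintype_card, Fintype.card_coe]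
  exact Nat.pow_le_pow_right (by norm_num) hS

end Cfsg.Agent.NormalRank
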