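import Cfsg.Agent.NormalRank.SpTwo
import Cfsg.Agent.NormalRank.GLTwoUpper

/-!
The normal 2-rank of general linear groups in odd characteristic.
-/

set_option autoImplicit false

namespace Cfsg.Agent.NormalRank

open Matrix Cfsg.Agent.SylowAbel

theorem central_mem_sylow {G : Type*} [Group G] {z : G} (hz : ∀ x, x * z = z * x) (hz2 : z * z = 1)
    (Q : Sylow 2 G) : z ∈ (Q : Subgroup G) := by
  have : Fact (Nat.Prime 2) := ⟨Nat.prime_two⟩
  have hn : (Subgroup.zpowers z).Normal := ⟨by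
    rintro x ⟨k, rfl⟩ g
    have : Commute g (z ^ k) := (show Commute g z from hz g).zpow_right k
    rw [this.eq, mul_inv_cancel_right]
    exact ⟨k, rfl⟩⟩
  have h2 : IsPGroup 2 (Subgroup.zpowers z) := by
    rintro ⟨x, k, rfl⟩
    refine ⟨1, Subtype.ext ?_⟩
    show (z ^ k) ^ (2 ^ 1) = 1
    rw [pow_one, ← zpow_natCast, ← _root_.zpow_mul, mul_comm, _root_.zpow_mul, zpow_natCast, pow_two, hz2,
      _root_.one_zpow]
  have hsup := IsPGroup.to_sup_of_normal_right (H := (Q : Subgroup G)) Q.2 h2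
  exact Q.is_maximal' hsup le_sup_left ▸ Subgroup.mem_sup_right (Subgroup.mem_zpowers _)

theorem exists_of_model {G W : Type*} [Group G] [Finite G] [Group W] (f : W →* G) (hf : Function.Injective f)
    (hcard : Nat.card W = 2 ^ (Nat.card G).factorization 2) (S : Sylow 2 G) (E : Subgroup W) (hE : E.Normal)
    (hel : Cfsg.IsElementaryAbelian 2 E) {r : ℕ} (hr : r ≤ Nat.card E) :
    ∃ E' : Subgroup ↥(S : Subgroup G), E'.Normal ∧ Cfsg.IsElementaryAbelian 2 E' ∧ r ≤ Nat.card E' := by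
  haveI : Fact (Nat.Prime 2) := ⟨Nat.prime_two⟩
  have hc : Nat.card f.range = 2 ^ (Nat.card G).factorization 2 := by
    rw [← hcard, Nat.card_congr (MonoidHom.ofInjective hf).toEquiv]
  let T : Sylow 2 G := Sylow.ofCard f.range hc
  have φ : W ≃* (S : Subgroup G) :=
    ((MonoidHom.ofInjective hf).trans (MulEquiv.subgroupCongr (Sylow.coe_ofCard _ _).symm)).trans (Sylow.equiv T S)
  refine ⟨E.map φ.toMonoidHom, hE.map _ φ.surjective, ⟨⟨⟨?_⟩⟩, ?_⟩, ?_⟩
  · rintro ⟨_, x, hx, rfl⟩ ⟨_, y, hy, rfl⟩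
    refine Subtype.ext ?_
    show φ x * φ y = φ y * φ x
    rw [← map_mul, ← map_mul, show x * y = y * x from congrArg Subtype.val (hel.1.is_comm.comm ⟨x, hx⟩ ⟨y, hy⟩)]
  · rintro _ ⟨x, hx, rfl⟩
    rw [← map_pow, hel.2 x hx, map_one]
  · exact hr.trans (le_of_eq (Nat.card_congr (E.equivMapOfInjective _ φ.injective).toEquiv))

theorem card_wrSub_one {A : Type*} [Group A] [Finite A] {o : Type*} [Fintype o] (P : Subgroup (Equiv.Perm o)) :
    Nat.card (wrSub (1 : A →* Unit) P) = Nat.card A ^ Fintype.card o * Nat.card P := by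
  let e : wrSub (1 : A →* Unit) P ≃ (o → A) × P :=
    { toFun := fun x => (x.1.left, ⟨x.1.right, x.2.2⟩)
      invFun := fun y => ⟨⟨y.1, y.2.1⟩, Subsingleton.elim _ _, y.2.2⟩
      left_inv := fun _ => rfl
      right_inv := fun _ => rfl }
  rw [Nat.card_congr e, Nat.card_prod, Nat.card_fun, Nat.card_eq_fintype_card (α := o)]

variable {F : Type*} [Field F] [Fintype F]

theorem card_gl_factorization (hodd : Odd (Fintype.card F)) (n : ℕ) :
    (Nat.card (GL (Fin n) F)).factorization 2 = glVal (Fintype.card F) n := by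
  rw [factorization_two, Matrix.card_GL_field, val_gl Fintype.one_lt_card hodd]

theorem padic_two_sub_one (hq : Fintype.card F % 4 = 1) :
    padicValNat 2 (Fintype.card F ^ 2 - 1) = padicValNat 2 (Fintype.card F - 1) + 1 := by
  haveI : Fact (Nat.Prime 2) := ⟨Nat.prime_two⟩
  have h1 := Fintype.one_lt_card (α := F)
  rw [show Fintype.card F ^ 2 - 1 = (Fintype.card F + 1) * (Fintype.card F - 1) by
    simpa using Nat.sq_sub_sq (Fintype.card F) 1, padicValNat.mul (by omega) (by omega)]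
  obtain ⟨r, hr⟩ : ∃ r, Fintype.card F + 1 = 2 * (2 * r + 1) := ⟨Fintype.card F / 4, by omega⟩
  rw [hr, padicValNat.mul two_ne_zero (by omega), padicValNat_self, padicValNat.eq_zero_of_not_dvd (by omega)]
  ring

theorem glVal_one_mod_four (hq : Fintype.card F % 4 = 1) :
    ∀ n, glVal (Fintype.card F) n = n * padicValNat 2 (Fintype.card F - 1) + padicValNat 2 n.factorial := by
  haveI : Fact (Nat.Prime 2) := ⟨Nat.prime_two⟩
  have hodd : Odd (Fintype.card F) := Nat.odd_iff.2 (by omega)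
  have h1 := Fintype.one_lt_card (α := F)
  intro n
  induction n with
  | zero => simp [glVal]
  | succ n ih =>
    rw [glVal, Finset.sum_range_succ, ← glVal, ih, Nat.factorial_succ,
      padicValNat.mul (by omega) (Nat.factorial_ne_zero n)]
    rcases Nat.even_or_odd' n with ⟨i, rfl | rfl⟩
    · rw [val_odd h1 hodd i, padicValNat.eq_zero_of_not_dvd (show ¬ 2 ∣ 2 * i + 1 by omega)]
      ring
    · rw [show 2 * i + 1 + 1 = 2 * (i + 1) by ring, val_even h1 hodd i, padic_two_sub_one hq,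
        padicValNat.mul two_ne_zero (show i + 1 ≠ 0 by omega), padicValNat_self]
      ring

theorem exists_one_mod_four (hq : Fintype.card F % 4 = 1) (n : ℕ) (S : Sylow 2 (GL (Fin n) F)) :
    ∃ E : Subgroup ↥(S : Subgroup (GL (Fin n) F)),
      E.Normal ∧ Cfsg.IsElementaryAbelian 2 E ∧ 2 ^ n ≤ Nat.card E := by
  haveI : Fact (Nat.Prime 2) := ⟨Nat.prime_two⟩
  have hodd : Odd (Fintype.card F) := Nat.odd_iff.2 (by omega)
  let A : Sylow 2 Fˣ := Classical.arbitrary _
  let P : Sylow 2 (Equiv.Perm (Fin n)) := Classical.arbitrary _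
  let θ : (A : Subgroup Fˣ) →* Matrix (Fin 1) (Fin 1) F :=
    { toFun := fun a => ((a : Fˣ) : F) • 1
      map_one' := by simp
      map_mul' := fun a b => by simp [smul_smul, mul_comm] }
  have hθ : Function.Injective θ := fun a b h => Subtype.ext (Units.ext (by
    simpa [θ] using congrFun (congrFun h 0) 0))
  let W := wrSub (1 : (A : Subgroup Fˣ) →* Unit) (P : Subgroup (Equiv.Perm (Fin n)))
  let e : Fin 1 × Fin n ≃ Fin n := Equiv.uniqueProd (Fin n) (Fin 1)
  let f : W →* GL (Fin n) F :=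
    (((Matrix.reindexAlgEquiv F F e).toMulEquiv.toMonoidHom.comp (wrHom θ)).comp W.subtype).toHomUnits
  have hf : Function.Injective f := fun x y h => Subtype.ext (wrHom_injective θ hθ
    ((Matrix.reindexAlgEquiv F F e).injective (congrArg (fun u : GL (Fin n) F => u.1) h)))
  have hA : Nat.card (A : Subgroup Fˣ) = 2 ^ padicValNat 2 (Fintype.card F - 1) := by
    classical
    rw [A.card_eq_multiplicity, factorization_two, Nat.card_eq_fintype_card, Fintype.card_units]
  let z : (A : Subgroup Fˣ) := ⟨-1, central_mem_sylow (fun x => mul_comm _ _) (by simp) A⟩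
  have hz1 : z ≠ 1 := fun h => by
    have h' : ((-1 : Fˣ) : F) = 1 := congrArg (fun x : (A : Subgroup Fˣ) => ((x : Fˣ) : F)) h
    rw [Units.val_neg, Units.val_one] at h'
    exact Classical.two_ne_zero_of_odd hodd (by linear_combination -h')
  obtain ⟨E, hEn, hEl, hEc⟩ := exists_signs z (fun a => mul_comm _ _) (Subtype.ext (by simp [z])) hz1
    (P : Subgroup (Equiv.Perm (Fin n)))
  rw [Fintype.card_fin] at hEc
  refine exists_of_model f hf ?_ S E hEn hEl hEc
  rw [card_wrSub_one, hA, Fintype.card_fin, card_sylow_perm, ← pow_mul, ← pow_add, card_gl_factorization hodd,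
    glVal_one_mod_four hq]
  ring

theorem exists_three_mod_four (hq : Fintype.card F % 4 = 3) (m ε n : ℕ) (hε : ε ≤ 1) (hn : n = 2 * m + ε)
    (S : Sylow 2 (GL (Fin n) F)) :
    ∃ E : Subgroup ↥(S : Subgroup (GL (Fin n) F)),
      E.Normal ∧ Cfsg.IsElementaryAbelian 2 E ∧ 2 ^ (m + ε) ≤ Nat.card E := by
  classical
  haveI : Fact (Nat.Prime 2) := ⟨Nat.prime_two⟩
  have hodd : Odd (Fintype.card F) := Nat.odd_iff.2 (by omega)
  have hq1 := Fintype.one_lt_card (α := F)
  have h2 := Classical.two_ne_zero_of_odd (F := F) hodd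
  obtain ⟨T, δ, d, t, -, hTc, -, -, -, -, -⟩ := exists_plane hodd
  rw [padicValNat_sub_one_of_four_dvd (show 4 ∣ Fintype.card F + 1 by omega)] at hTc
  have hT2 : Nat.card T = 2 ^ (Nat.card (GL (Fin 2) F)).factorization 2 := by
    rw [card_gl_factorization hodd, hTc, show (2 : ℕ) = 2 * 1 from rfl, glVal_even hq1 hodd 1,
      padicValNat_sub_one_of_four_dvd (show 4 ∣ Fintype.card F + 1 by omega)]
    simp [Nat.add_comm]
  let P : Sylow 2 (Equiv.Perm (Fin m)) := Classical.arbitrary _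
  let θ : T →* Matrix (Fin 2) (Fin 2) F := (Units.coeHom _).comp T.subtype
  have hθ : Function.Injective θ := fun x y h => Subtype.ext (Units.ext h)
  let W := wrSub (1 : T →* Unit) (P : Subgroup (Equiv.Perm (Fin m)))
  let A1 := Subgroup.zpowers (-1 : Fˣ)
  let e : (Fin 2 × Fin m) ⊕ Fin ε ≃ Fin n := Fintype.equivFinOfCardEq (by simp; omega)
  let Ψ : W × (Fin ε → A1) →* Matrix ((Fin 2 × Fin m) ⊕ Fin ε) ((Fin 2 × Fin m) ⊕ Fin ε) F :=
    { toFun := fun w => Matrix.fromBlocks (wrHom θ w.1.1) 0 0 (Matrix.diagonal fun l => ((w.2 l : Fˣ) : F))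
      map_one' := by simp [Matrix.diagonal_one]
      map_mul' := fun w w' => by
        rw [Matrix.fromBlocks_multiply]
        simp [map_mul] }
  let f : W × (Fin ε → A1) →* GL (Fin n) F :=
    ((Matrix.reindexAlgEquiv F F e).toMulEquiv.toMonoidHom.comp Ψ).toHomUnits
  have hf : Function.Injective f := fun x y h => by
    have h' : Ψ x = Ψ y := (Matrix.reindexAlgEquiv F F e).injective (congrArg (fun u : GL (Fin n) F => u.1) h)
    refine Prod.ext (Subtype.ext (wrHom_injective θ hθ ?_)) (funext fun l => Subtype.ext (Units.ext ?_))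
    · simpa [Ψ] using congrArg Matrix.toBlocks₁₁ h'
    · simpa [Ψ] using congrFun (congrFun (congrArg Matrix.toBlocks₂₂ h') l) l
  have hA1 : Nat.card A1 = 2 := by
    rw [Nat.card_zpowers]
    refine orderOf_eq_prime (by simp) fun h => h2 ?_
    have h' : ((-1 : Fˣ) : F) = 1 := by rw [h, Units.val_one]
    rw [Units.val_neg, Units.val_one] at h'
    linear_combination -h'
  let z : T := ⟨-1, by
    have := central_mem_sylow (z := (-1 : GL (Fin 2) F)) (fun x => Units.ext (by simp)) (by simp) (Sylow.ofCard T hT2)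
    rwa [Sylow.coe_ofCard] at this⟩
  have hz1 : z ≠ 1 := fun h => by
    have h' := congrArg (fun x : T => (θ x) 0 0) h
    simp [θ, z] at h'
    exact h2 (by linear_combination -h')
  obtain ⟨E, hEn, ⟨hEcm, hE2⟩, hEc⟩ := exists_signs z (fun a => Subtype.ext (Units.ext (by simp [z])))
    (Subtype.ext (by simp [z])) hz1 (P : Subgroup (Equiv.Perm (Fin m)))
  rw [Fintype.card_fin] at hEc
  refine exists_of_model f hf ?_ S (E.prod ⊤) (Subgroup.prod_normal E ⊤) ⟨⟨⟨?_⟩⟩, ?_⟩ ?_
  · rw [Nat.card_prod, card_wrSub_one, hTc, Fintype.card_fin, card_sylow_perm, Nat.card_fun, hA1, Nat.card_fin,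
      ← pow_mul, ← pow_add, ← pow_add, card_gl_factorization hodd, hn]
    congr 1
    rcases Nat.le_one_iff_eq_zero_or_eq_one.1 hε with rfl | rfl
    · simp only [Nat.add_zero]
      rw [glVal_even hq1 hodd m, padicValNat_sub_one_of_four_dvd (show 4 ∣ Fintype.card F + 1 by omega)]
      ring
    · rw [glVal_odd hq1 hodd m, glVal_even hq1 hodd m,
        padicValNat_sub_one_of_four_dvd (show 4 ∣ Fintype.card F + 1 by omega)]
      ring
  · rintro ⟨⟨a, u⟩, ha, -⟩ ⟨⟨b, v⟩, hb, -⟩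
    refine Subtype.ext (Prod.ext ?_ (mul_comm u v))
    exact congrArg Subtype.val (hEcm.is_comm.comm ⟨a, ha⟩ ⟨b, hb⟩)
  · rintro ⟨a, u⟩ ⟨ha, -⟩
    refine Prod.ext (hE2 a ha) (funext fun l => ?_)
    have h := orderOf_dvd_natCard (G := A1) (u l)
    rw [hA1] at h
    exact orderOf_dvd_iff_pow_eq_one.1 h
  · rw [Nat.card_congr (Subgroup.prodEquiv E ⊤).toEquiv, Nat.card_prod, Subgroup.card_top, Nat.card_fun, hA1,
      Nat.card_fin, pow_add]
    exact Nat.mul_le_mul_right _ hEc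

theorem le_of_elementary_gl (hodd : Odd (Fintype.card F)) (n : ℕ) (H : Subgroup (GL (Fin n) F)) (E : Subgroup H)
    (hE : Cfsg.IsElementaryAbelian 2 E) : Nat.card E ≤ 2 ^ n := by
  classical
  obtain ⟨b, s, hs, -, -⟩ := exists_sign_map (Classical.two_ne_zero_of_odd hodd)
    ((Units.coeHom (Matrix (Fin n) (Fin n) F)).comp H.subtype)
    (fun x y h => Subtype.ext (Units.ext h)) E hE.1 hE.2
  refine (Nat.card_le_card_of_injective _ hs).trans ?_
  simp

/-- tuples of plane elements -/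
noncomputable def blocksHom (F : Type*) [Field F] (m ε : ℕ) : (Fin m → Matrix (Fin 2) (Fin 2) F) →*
    Matrix ((Fin 2 × Fin m) ⊕ Fin ε) ((Fin 2 × Fin m) ⊕ Fin ε) F where
  toFun g := Matrix.fromBlocks (Matrix.blockDiagonal g) 0 0 1
  map_one' := by simp [Matrix.blockDiagonal_one]
  map_mul' g g' := by
    rw [Matrix.fromBlocks_multiply]
    simp [← Matrix.blockDiagonal_mul]
    rfl

theorem le_three_mod_four (hq : Fintype.card F % 4 = 3) (m ε n : ℕ) (hn : n = 2 * m + ε)
    (S : Sylow 2 (GL (Fin n) F)) (E : Subgroup ↥(S : Subgroup (GL (Fin n) F))) (hEn : E.Normal)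
    (hE : Cfsg.IsElementaryAbelian 2 E) : Nat.card E ≤ 2 ^ (m + ε) := by
  classical
  haveI : Fact (Nat.Prime 2) := ⟨Nat.prime_two⟩
  have hodd : Odd (Fintype.card F) := Nat.odd_iff.2 (by omega)
  have h2 := Classical.two_ne_zero_of_odd (F := F) hodd
  have hns : ∀ x : F, x ^ 2 ≠ -1 := fun x hx =>
    (FiniteField.isSquare_neg_one_iff.1 ⟨x, by rw [← pow_two, hx]⟩) hq
  obtain ⟨α, hα⟩ : ∃ α : F, 4 * α ^ 4 = 1 := by
    have key : ∀ c : F, c ^ 4 = 4 → ∃ α : F, 4 * α ^ 4 = 1 := fun c hc => ⟨c⁻¹, by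
      rw [inv_pow, ← hc, mul_inv_cancel₀]
      rw [hc, show (4 : F) = 2 * 2 by norm_num]; exact mul_ne_zero h2 h2⟩
    by_cases h8 : Fintype.card F % 8 = 7
    · obtain ⟨c, hc⟩ := (FiniteField.isSquare_two_iff (F := F)).2 (by omega)
      exact key c (by rw [show c ^ 4 = (c * c) ^ 2 by ring, ← hc]; norm_num)
    · obtain ⟨c, hc⟩ := (FiniteField.isSquare_neg_two_iff (F := F)).2 (by omega)
      exact key c (by rw [show c ^ 4 = (c * c) ^ 2 by ring, ← hc]; norm_num)
  set d : Matrix (Fin 2) (Fin 2) F := !![α, -α; α, α] with hd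
  have hd4 : d ^ 4 = -1 := by
    rw [hd, show (4 : ℕ) = 2 * 2 from rfl, pow_mul, pow_two, pow_two]
    ext i j
    fin_cases i <;> fin_cases j <;> simp [Matrix.mul_apply, Fin.sum_univ_two]
    all_goals first | linear_combination -hα | ring
  have hd8 : d ^ 8 = 1 := by rw [show (8 : ℕ) = 4 * 2 from rfl, pow_mul, hd4, neg_one_sq]
  let du : GL (Fin 2) F := (IsUnit.of_pow_eq_one hd8 (by norm_num)).unit
  have hdu : du ^ 8 = 1 := Units.ext (by rw [Units.val_pow_eq_pow_val]; exact hd8)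
  let e : (Fin 2 × Fin m) ⊕ Fin ε ≃ Fin n := Fintype.equivFinOfCardEq (by simp; omega)
  let R := (Matrix.reindexAlgEquiv F F e).toMulEquiv
  let Φ : (Fin m → Subgroup.zpowers du) →* GL (Fin n) F :=
    MonoidHom.toHomUnits (R.toMonoidHom.comp ((blocksHom F m ε).comp
      ({ toFun := fun (g : Fin m → Subgroup.zpowers du) k => ((g k : GL (Fin 2) F) : Matrix (Fin 2) (Fin 2) F)
         map_one' := rfl
         map_mul' := fun _ _ => rfl } : (Fin m → Subgroup.zpowers du) →* (Fin m → Matrix (Fin 2) (Fin 2) F))))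
  have hall : ∀ g : Fin m → Subgroup.zpowers du, g ^ 2 ^ 3 = 1 := fun g => funext fun k => Subtype.ext (by
    obtain ⟨i, hi⟩ := (g k).2
    show (g k : GL (Fin 2) F) ^ 2 ^ 3 = 1
    rw [← hi, ← zpow_natCast, ← _root_.zpow_mul, mul_comm, _root_.zpow_mul, zpow_natCast,
      show (2 : ℕ) ^ 3 = 8 from rfl, hdu, _root_.one_zpow])
  have hP : IsPGroup 2 Φ.range := by
    rintro ⟨_, g, rfl⟩
    exact ⟨3, Subtype.ext (by show Φ g ^ 2 ^ 3 = 1; rw [← map_pow, hall, map_one])⟩
  obtain ⟨T, hT⟩ := hP.exists_le_sylow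
  obtain ⟨g, hg⟩ := MulAction.exists_smul_eq (GL (Fin n) F) T S
  have hmem : ∀ y, g * Φ y * g⁻¹ ∈ (S : Subgroup (GL (Fin n) F)) := fun y => by
    rw [← hg, Sylow.coe_subgroup_smul]
    exact ⟨Φ y, hT ⟨y, rfl⟩, rfl⟩
  let toM : (S : Subgroup (GL (Fin n) F)) →* Matrix ((Fin 2 × Fin m) ⊕ Fin ε) ((Fin 2 × Fin m) ⊕ Fin ε) F :=
    R.symm.toMonoidHom.comp ((Units.coeHom _).comp
      ((MulAut.conj g⁻¹).toMonoidHom.comp (S : Subgroup (GL (Fin n) F)).subtype))
  have hinj : Function.Injective toM :=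
    R.symm.injective.comp (Units.val_injective.comp ((MulAut.conj g⁻¹).injective.comp Subtype.val_injective))
  let x : Fin m → (S : Subgroup (GL (Fin n) F)) :=
    fun i => ⟨_, hmem (Pi.mulSingle i ⟨du, Subgroup.mem_zpowers du⟩)⟩
  refine bound_of_blocks h2 hns toM hinj E hE.1 hE.2 d hd4 x (fun i => ?_) (fun i => ?_)
    (fun i a ha => by simpa using hEn.conj_mem a ha (x i)⁻¹) (fun i a ha => hEn.conj_mem a ha (x i))
  · show R.symm ((g⁻¹ * (g * Φ _ * g⁻¹) * g⁻¹⁻¹ : GL (Fin n) F) : Matrix (Fin n) (Fin n) F) = _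
    rw [show g⁻¹ * (g * Φ (Pi.mulSingle i ⟨du, Subgroup.mem_zpowers du⟩) * g⁻¹) * g⁻¹⁻¹ =
      Φ (Pi.mulSingle i ⟨du, Subgroup.mem_zpowers du⟩) by group]
    refine (R.symm_apply_apply (blocksHom F m ε fun k =>
      (((Pi.mulSingle i ⟨du, Subgroup.mem_zpowers du⟩ : Fin m → Subgroup.zpowers du) k : GL (Fin 2) F) :
        Matrix (Fin 2) (Fin 2) F))).trans ?_
    show Matrix.fromBlocks _ 0 0 1 = Matrix.fromBlocks _ 0 0 1
    congr 2
    funext k
    by_cases hk : k = i
    · subst hk; simp [du]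
    · simp [hk]
  · refine Subtype.ext ?_
    show (g * Φ _ * g⁻¹) ^ 8 = 1
    rw [conj_pow, ← map_pow, show (8 : ℕ) = 2 ^ 3 from rfl, hall, map_one, mul_one, mul_inv_cancel]

end Cfsg.Agent.NormalRank
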