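import Cfsg.Agent.SylowAbel.Classical
import Cfsg.Prelude.Def_CaseTheorems

/-!
An upper bound for the elementary abelian 2-subgroups of symplectic groups in odd characteristic (same argument as
the 2-rank file of the classical groups, restated here as that file cannot be imported next to the Sylow models).
-/

set_option autoImplicit false

namespace Cfsg.Agent.NormalRank

open Module Matrix Cfsg.Agent.Classical

/-- Commuting involutive maps are simultaneously diagonalisable. -/
theorem exists_sign_basis {F : Type*} [Field F] (h2 : (2 : F) ≠ 0) {A : Type*} :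
    ∀ (d : ℕ) {V : Type*} [AddCommGroup V] [Module F V] [FiniteDimensional F V] (f : A → V →ₗ[F] V),
      finrank F V = d → (∀ a b x, f a (f b x) = f b (f a x)) → (∀ a x, f a (f a x) = x) →
      ∃ (b : Basis (Fin d) F V) (ε : A → Fin d → F),
        (∀ a i, f a (b i) = ε a i • b i) ∧ ∀ a i, ε a i = 1 ∨ ε a i = -1 := by
  intro d
  induction d using Nat.strong_induction_on with
  | _ d ih =>
    intro V _ _ _ f hd hcomm hsq
    classical
    by_cases hs : ∀ a, (∀ x, f a x = x) ∨ (∀ x, f a x = -x)
    · refine ⟨finBasisOfFinrankEq F V hd, fun a _ => if ∀ x, f a x = x then 1 else -1, fun a i => ?_, fun a i => ?_⟩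
      · by_cases h : ∀ x, f a x = x
        · simp only [if_pos h]; rw [one_smul, h]
        · simp only [if_neg h]; rw [neg_one_smul, (hs a).resolve_left h]
      · by_cases h : ∀ x, f a x = x
        · exact Or.inl (if_pos h)
        · exact Or.inr (if_neg h)
    push Not at hs
    obtain ⟨a₀, hp, hm⟩ := hs
    let P := LinearMap.ker (f a₀ - LinearMap.id)
    let M := LinearMap.ker (f a₀ + LinearMap.id)
    have hP : ∀ x, x ∈ P ↔ f a₀ x = x := fun x => by simp [P, LinearMap.mem_ker, sub_eq_zero]
    have hM : ∀ x, x ∈ M ↔ f a₀ x = -x := fun x => by simp [M, LinearMap.mem_ker, add_eq_zero_iff_eq_neg]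
    have hPM : IsCompl P M := by
      constructor
      · rw [Submodule.disjoint_def]
        intro x hxP hxM
        have : (2 : F) • x = 0 := by
          rw [two_smul]
          nth_rewrite 1 [← (hP x).1 hxP]
          rw [(hM x).1 hxM, neg_add_cancel]
        exact (smul_eq_zero.1 this).resolve_left h2
      · rw [codisjoint_iff, Submodule.eq_top_iff']
        intro x
        refine Submodule.mem_sup.2 ⟨(2 : F)⁻¹ • (x + f a₀ x), (hP _).2 ?_, (2 : F)⁻¹ • (x - f a₀ x), (hM _).2 ?_, ?_⟩
        · rw [map_smul, map_add, hsq, add_comm]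
        · rw [map_smul, map_sub, hsq, ← smul_neg, neg_sub]
        · rw [← smul_add, add_add_sub_cancel, ← two_smul F x, smul_smul, inv_mul_cancel₀ h2, one_smul]
    have hPne : finrank F P ≠ 0 := fun h0 => by
      obtain ⟨x, hx⟩ := hm
      have : x + f a₀ x ∈ P := (hP _).2 (by rw [map_add, hsq, add_comm])
      rw [Submodule.finrank_eq_zero.1 h0, Submodule.mem_bot] at this
      exact hx (eq_neg_of_add_eq_zero_right this)
    have hMne : finrank F M ≠ 0 := fun h0 => by
      obtain ⟨x, hx⟩ := hp
      have : x - f a₀ x ∈ M := (hM _).2 (by rw [map_sub, hsq, neg_sub])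
      rw [Submodule.finrank_eq_zero.1 h0, Submodule.mem_bot] at this
      exact hx (sub_eq_zero.1 this).symm
    have hsum := Submodule.finrank_add_eq_of_isCompl hPM
    rw [hd] at hsum
    have hPi : ∀ a, ∀ x ∈ P, f a x ∈ P := fun a x hx => (hP _).2 (by rw [hcomm, (hP x).1 hx])
    have hMi : ∀ a, ∀ x ∈ M, f a x ∈ M := fun a x hx => (hM _).2 (by rw [hcomm, (hM x).1 hx, map_neg])
    obtain ⟨bP, eP, hbP, heP⟩ := ih (finrank F P) (by omega) (fun a => (f a).restrict (hPi a)) rfl
      (fun a b x => Subtype.ext (hcomm a b x.1)) (fun a x => Subtype.ext (hsq a x.1))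
    obtain ⟨bM, eM, hbM, heM⟩ := ih (finrank F M) (by omega) (fun a => (f a).restrict (hMi a)) rfl
      (fun a b x => Subtype.ext (hcomm a b x.1)) (fun a x => Subtype.ext (hsq a x.1))
    let σ : Fin (finrank F P) ⊕ Fin (finrank F M) ≃ Fin d := finSumFinEquiv.trans (finCongr hsum)
    refine ⟨((bP.prod bM).map (Submodule.prodEquivOfIsCompl P M hPM)).reindex σ,
      fun a i => Sum.elim (eP a) (eM a) (σ.symm i), fun a i => ?_, fun a i => ?_⟩
    · rw [Basis.reindex_apply]
      show f a _ = Sum.elim (eP a) (eM a) (σ.symm i) • _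
      rcases σ.symm i with j | j
      · simpa [Basis.prod_apply] using congrArg Subtype.val (hbP a j)
      · simpa [Basis.prod_apply] using congrArg Subtype.val (hbM a j)
    · show Sum.elim (eP a) (eM a) (σ.symm i) = 1 ∨ Sum.elim (eP a) (eM a) (σ.symm i) = -1
      rcases σ.symm i with j | j
      · exact heP a j
      · exact heM a j

variable {F : Type*} [Field F] [Fintype F]

variable {F : Type*} [Field F]

/-- A diagonalised elementary abelian subgroup of a matrix group. -/
theorem exists_sign_map {G : Type*} [Group G] {ι : Type} [Fintype ι] [DecidableEq ι] (h2 : (2 : F) ≠ 0)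
    (toM : G →* Matrix ι ι F) (hinj : Function.Injective toM) (A : Subgroup G) (hA : IsMulCommutative A)
    (hexp : ∀ a ∈ A, a ^ 2 = 1) :
    ∃ (b : Basis (Fin (Fintype.card ι)) F (ι → F)) (s : A → Fin (Fintype.card ι) → Bool), Function.Injective s ∧
      (∀ a i, toM a.1 *ᵥ b i = (if s a i then (-1 : F) else 1) • b i) ∧
      (∀ a, (toM a.1).det = ∏ i, if s a i then (-1 : F) else 1) := by
  classical
  obtain ⟨b, ε, hε, hε1⟩ := exists_sign_basis h2 _ (fun a : A => (toM a.1).mulVecLin)
    (Module.finrank_fintype_fun_eq_card F (η := ι))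
    (fun a c x => by
      simp only [Matrix.mulVecLin_apply, Matrix.mulVec_mulVec, ← map_mul]
      rw [show a.1 * c.1 = c.1 * a.1 from congrArg Subtype.val (hA.is_comm.comm a c)])
    (fun a x => by
      simp only [Matrix.mulVecLin_apply, Matrix.mulVec_mulVec, ← map_mul]
      rw [← pow_two, hexp a.1 a.2, map_one, Matrix.one_mulVec])
  have hne : (-1 : F) ≠ 1 := fun h => h2 (by linear_combination -h)
  have key : ∀ a i, ε a i = if decide (ε a i = -1) then (-1 : F) else 1 := fun a i => by
    rcases hε1 a i with h | h <;> simp [h, hne.symm]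
  refine ⟨b, fun a i => decide (ε a i = -1), fun a c hac => ?_, fun a i => ?_, fun a => ?_⟩
  · refine Subtype.ext (hinj (Matrix.toLin'.injective (b.ext fun i => ?_)))
    have e : decide (ε a i = -1) = decide (ε c i = -1) := congrFun hac i
    rw [Matrix.toLin'_apply, Matrix.toLin'_apply]
    have ha := hε a i
    have hc := hε c i
    rw [Matrix.mulVecLin_apply] at ha hc
    rw [ha, hc, key a i, key c i, e]
  · have := hε a i
    rw [Matrix.mulVecLin_apply] at this
    rw [this, ← key]
  · have hdiag : LinearMap.toMatrix b b (toM a.1).mulVecLin = Matrix.diagonal (ε a) := by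
      ext i j
      rw [LinearMap.toMatrix_apply, hε a j, map_smul, Basis.repr_self]
      by_cases hij : i = j
      · subst hij; simp
      · simp [hij, Ne.symm hij]
    rw [show (toM a.1).det = LinearMap.det (toM a.1).mulVecLin from (LinearMap.det_toLin' _).symm,
      ← LinearMap.det_toMatrix b, hdiag, Matrix.det_diagonal]
    exact Finset.prod_congr rfl fun i _ => key a i

theorem sp_elementary_le [Fintype F] (hF : Odd (Fintype.card F)) (n : ℕ) :
    Cfsg.PRankLE 2 n (Matrix.symplecticGroup (Fin n) F) := by
  classical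
  have h2 := two_ne_zero_of_odd hF
  have hne : (-1 : F) ≠ 1 := fun h => h2 (by linear_combination -h)
  intro A hA hexp
  obtain ⟨b, s, hs, hb, -⟩ := exists_sign_map h2 (Matrix.symplecticGroup (Fin n) F).subtype
    Subtype.val_injective A hA hexp
  let N := Fintype.card (Fin n ⊕ Fin n)
  let χ : Fin N → (A → Bool) := fun i a => s a i
  let S : Finset (A → Bool) := Finset.univ.image χ
  have htwice : ∀ i, ∃ j, j ≠ i ∧ χ j = χ i := by
    intro i
    by_contra hc
    push Not at hc
    refine b.ne_zero i (sympB_nondeg.1 (b i) fun v => ?_)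
    rw [← b.sum_repr v, map_sum]
    refine Finset.sum_eq_zero fun j _ => ?_
    rw [map_smul, smul_eq_mul]
    refine mul_eq_zero_of_right _ ?_
    by_cases hji : j = i
    · rw [hji]; exact sympB_isAlt (b i)
    obtain ⟨a, ha⟩ : ∃ a, χ j a ≠ χ i a := Function.ne_iff.1 (hc j hji)
    have h := (mem_symplectic_iff a.1.1).1 a.1.2 (b i) (b j)
    have hi := hb a i
    have hj := hb a j
    simp only [Subgroup.coe_subtype, MonoidHom.coe_coe, Submonoid.coe_subtype] at hi hj
    rw [show a.1.1 *ᵥ b i = _ from hi, show a.1.1 *ᵥ b j = _ from hj, map_smul, LinearMap.map_smul,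
      LinearMap.smul_apply, smul_smul] at h
    change s a j ≠ s a i at ha
    set x := sympB n F (b i) (b j)
    have h3 : (2 : F) * x = 0 := by
      cases hsi : s a i <;> cases hsj : s a j <;> simp [hsi, hsj] at ha h <;> linear_combination -h
    exact (mul_eq_zero.1 h3).resolve_left h2
  have hS : S.card ≤ n := by
    have h1 : ∀ c ∈ S, 2 ≤ (Finset.univ.filter fun i => χ i = c).card := fun c hc => by
      obtain ⟨i, -, rfl⟩ := Finset.mem_image.1 hc
      obtain ⟨j, hji, hj⟩ := htwice i
      exact Finset.one_lt_card.2 ⟨j, by simp [hj], i, by simp, hji⟩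
    have h3 := Finset.card_eq_sum_card_image χ (Finset.univ : Finset (Fin N))
    have h4 := Finset.card_nsmul_le_sum S _ 2 h1
    rw [Finset.card_univ, Fintype.card_fin] at h3
    rw [smul_eq_mul] at h4
    have hN' : N = n + n := by simp [N]
    change _ ≤ ∑ c ∈ Finset.image χ Finset.univ, _ at h4
    omega
  have hinj : Function.Injective fun a : A => fun c : S => c.1 a := by
    intro a a' h
    exact hs (funext fun i => congrFun h ⟨χ i, Finset.mem_image_of_mem χ (Finset.mem_univ i)⟩)
  refine (Nat.card_le_card_of_injective _ hinj).trans ?_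
  rw [Nat.card_fun, Nat.card_eq_fintype_card, Fintype.card_bool, Nat.card_eq_fintype_card, Fintype.card_coe]
  exact Nat.pow_le_pow_right (by norm_num) hS

end Cfsg.Agent.NormalRank
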