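import Cfsg.Agent.SylowAbel.Classical
import Cfsg.Agent.NormalRank.SpRankBound

/-!
Elementary abelian normal subgroups of Sylow 2-subgroups of symplectic groups in odd characteristic.
-/

set_option autoImplicit false

namespace Cfsg.Agent.NormalRank

open Matrix Cfsg.Agent.SylowAbel

variable {F : Type*} [Field F] [Fintype F]

local notation "SL2" => Matrix.SpecialLinearGroup (Fin 2) F

theorem neg_one_mem_sylow (Q : Sylow 2 SL2) : (-1 : SL2) ∈ (Q : Subgroup SL2) := by
  have : Fact (Nat.Prime 2) := ⟨Nat.prime_two⟩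
  have hc : ∀ x : SL2, x * (-1) = (-1) * x := fun x => by simp
  have hn : (Subgroup.zpowers (-1 : SL2)).Normal := ⟨by
    rintro x ⟨k, rfl⟩ g
    have : Commute g ((-1 : SL2) ^ k) := (show Commute g (-1 : SL2) from hc g).zpow_right k
    rw [this.eq, mul_inv_cancel_right]
    exact ⟨k, rfl⟩⟩
  have h2 : IsPGroup 2 (Subgroup.zpowers (-1 : SL2)) := by
    rintro ⟨x, k, rfl⟩
    refine ⟨1, Subtype.ext ?_⟩
    show ((-1 : SL2) ^ k) ^ (2 ^ 1) = 1
    rw [pow_one, ← zpow_natCast, ← _root_.zpow_mul, mul_comm, _root_.zpow_mul, zpow_natCast,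
      show (-1 : SL2) ^ 2 = 1 by rw [pow_two]; simp, _root_.one_zpow]
  have hsup := IsPGroup.to_sup_of_normal_right (H := (Q : Subgroup SL2)) Q.2 h2
  have := Q.is_maximal' hsup le_sup_left
  exact this ▸ Subgroup.mem_sup_right (Subgroup.mem_zpowers _)

/-- the sign tuples form a normal subgroup of the wreath product -/
theorem exists_signs {A : Type*} [Group A] [Finite A] {o : Type*} [Fintype o] (z : A) (hz : ∀ a, a * z = z * a)
    (hz2 : z * z = 1) (hz1 : z ≠ 1) (P : Subgroup (Equiv.Perm o)) :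
    ∃ E : Subgroup (wrSub (1 : A →* Unit) P), E.Normal ∧ Cfsg.IsElementaryAbelian 2 E ∧
      2 ^ Fintype.card o ≤ Nat.card E := by
  classical
  let E : Subgroup (wrSub (1 : A →* Unit) P) :=
    { carrier := {x | x.1.right = 1 ∧ ∀ k, x.1.left k = 1 ∨ x.1.left k = z}
      one_mem' := ⟨rfl, fun _ => Or.inl rfl⟩
      mul_mem' := by
        rintro x y ⟨hx, hx'⟩ ⟨hy, hy'⟩
        refine ⟨by show x.1.right * y.1.right = 1; rw [hx, hy, one_mul], fun k => ?_⟩
        show x.1.left k * y.1.left (x.1.right.symm k) = 1 ∨ x.1.left k * y.1.left (x.1.right.symm k) = z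
        rcases hx' k with h | h <;> rcases hy' (x.1.right.symm k) with h' | h' <;> rw [h, h'] <;> simp [hz2]
      inv_mem' := by
        rintro x ⟨hx, hx'⟩
        refine ⟨by show x.1.right⁻¹ = 1; rw [hx, inv_one], fun k => ?_⟩
        show (x.1.left (x.1.right⁻¹.symm k))⁻¹ = 1 ∨ (x.1.left (x.1.right⁻¹.symm k))⁻¹ = z
        rcases hx' (x.1.right⁻¹.symm k) with h | h <;> rw [h]
        · exact Or.inl inv_one
        · exact Or.inr (inv_eq_of_mul_eq_one_right hz2) }
  have hmem : ∀ x, x ∈ E ↔ x.1.right = 1 ∧ ∀ k, x.1.left k = 1 ∨ x.1.left k = z := fun x => Iff.rfl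
  refine ⟨E, ⟨fun x hx g => ?_⟩, ⟨⟨⟨fun x y => ?_⟩⟩, fun x hx => ?_⟩, ?_⟩
  · rw [hmem] at hx ⊢
    obtain ⟨hx, hx'⟩ := hx
    refine ⟨by show g.1.right * x.1.right * g.1.right⁻¹ = 1; rw [hx, mul_one, mul_inv_cancel], fun k => ?_⟩
    show (g.1.left k * x.1.left (g.1.right.symm k)) *
        ((g.1.left ((g.1.right⁻¹).symm ((g.1.right * x.1.right).symm k)))⁻¹) = 1 ∨
      (g.1.left k * x.1.left (g.1.right.symm k)) *
        ((g.1.left ((g.1.right⁻¹).symm ((g.1.right * x.1.right).symm k)))⁻¹) = z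
    rw [hx, mul_one, show (g.1.right⁻¹).symm (g.1.right.symm k) = k from g.1.right.apply_symm_apply k]
    rcases hx' (g.1.right.symm k) with h | h <;> rw [h]
    · left; rw [mul_one, mul_inv_cancel]
    · right; rw [hz, mul_assoc, mul_inv_cancel, mul_one]
  · obtain ⟨hx, hx'⟩ := (hmem x.1).1 x.2
    obtain ⟨hy, hy'⟩ := (hmem y.1).1 y.2
    refine Subtype.ext (Subtype.ext (SemidirectProduct.ext (funext fun k => ?_) ?_))
    · show x.1.1.left k * y.1.1.left (x.1.1.right.symm k) = y.1.1.left k * x.1.1.left (y.1.1.right.symm k)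
      rw [hx, hy]
      show x.1.1.left k * y.1.1.left k = y.1.1.left k * x.1.1.left k
      rcases hx' k with h | h <;> rw [h]
      · simp
      · exact (hz _).symm
    · show x.1.1.right * y.1.1.right = y.1.1.right * x.1.1.right
      rw [hx, hy]
  · obtain ⟨hx, hx'⟩ := (hmem x).1 hx
    rw [pow_two]
    refine Subtype.ext (SemidirectProduct.ext (funext fun k => ?_) ?_)
    · show x.1.left k * x.1.left (x.1.right.symm k) = 1
      rw [hx]
      show x.1.left k * x.1.left k = 1
      rcases hx' k with h | h <;> rw [h] <;> simp [hz2]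
    · show x.1.right * x.1.right = 1
      rw [hx, one_mul]
  · let g : (o → Bool) → E := fun s =>
      ⟨⟨SemidirectProduct.inl fun k => if s k then z else 1, ⟨Subsingleton.elim _ _, one_mem _⟩⟩,
        (hmem _).2 ⟨rfl, fun k => by cases h : s k <;> simp [h]⟩⟩
    have hg : Function.Injective g := fun s t h => funext fun k => by
      have h' : (if s k then z else 1) = (if t k then z else 1) :=
        congrArg (fun e : E => e.1.1.left k) h
      cases hs : s k <;> cases ht : t k <;> simp [hs, ht, hz1, Ne.symm hz1] at h' ⊢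
    have : Finite E := Finite.of_injective (fun e : E => (e.1.1.left, e.1.1.right)) fun a b h =>
      Subtype.ext (Subtype.ext (SemidirectProduct.ext (Prod.ext_iff.1 h).1 (Prod.ext_iff.1 h).2))
    refine le_trans ?_ (Nat.card_le_card_of_injective g hg)
    rw [Nat.card_fun, Nat.card_eq_fintype_card, Fintype.card_bool, Nat.card_eq_fintype_card]

theorem exists_normal_elementary (hF : Odd (Fintype.card F)) (n : ℕ) (hn : 1 ≤ n)
    (R : Sylow 2 (Matrix.symplecticGroup (Fin n) F)) :
    ∃ E : Subgroup ↥(R : Subgroup (Matrix.symplecticGroup (Fin n) F)),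
      E.Normal ∧ Cfsg.IsElementaryAbelian 2 E ∧ 2 ^ n ≤ Nat.card E := by
  haveI : Fact (Nat.Prime 2) := ⟨Nat.prime_two⟩
  haveI : Nonempty (Fin n) := ⟨⟨0, hn⟩⟩
  have hq := Fintype.one_lt_card (α := F)
  let Q : Sylow 2 SL2 := Classical.arbitrary _
  let S : Sylow 2 (Equiv.Perm (Fin n)) := Classical.arbitrary _
  let θ : (Q : Subgroup SL2) →* Matrix (Fin 2) (Fin 2) F :=
    { toFun := fun x => ((x : SL2) : Matrix (Fin 2) (Fin 2) F)
      map_one' := rfl
      map_mul' := fun _ _ => rfl }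
  have hθ : Function.Injective θ := fun x y h => Subtype.ext (Subtype.ext h)
  let δ : (Q : Subgroup SL2) →* Unit := 1
  let Φ : wrSub δ (S : Subgroup (Equiv.Perm (Fin n))) →* Matrix (Fin n ⊕ Fin n) (Fin n ⊕ Fin n) F :=
    ((Matrix.reindexAlgEquiv F F (planeEquiv n)).toMulEquiv.toMonoidHom.comp (wrHom θ)).comp
      (wrSub δ (S : Subgroup (Equiv.Perm (Fin n)))).subtype
  have hmem : ∀ x, Φ x ∈ Matrix.symplecticGroup (Fin n) F := by
    intro x
    rw [SymplecticGroup.mem_iff]
    show Matrix.reindex _ _ (wrHom θ x.1) * _ * (Matrix.reindex _ _ (wrHom θ x.1))ᵀ = _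
    rw [← plane_form]
    simp only [Matrix.reindex_apply, Matrix.transpose_submatrix, Matrix.submatrix_mul_equiv]
    congr 1
    set Pm := (Matrix.permMatrixHom (blkPerm (m := Fin 2) x.1.right) :
      Matrix (Fin 2 × Fin n) (Fin 2 × Fin n) F) with hPm
    have h1 : Pm * Pmᵀ = 1 := by
      rw [hPm, show (Matrix.permMatrixHom (blkPerm (m := Fin 2) x.1.right) :
        Matrix (Fin 2 × Fin n) (Fin 2 × Fin n) F) = (blkPerm x.1.right)⁻¹.permMatrix F from rfl,
        Matrix.transpose_permMatrix, ← Matrix.permMatrix_mul, inv_inv, mul_inv_cancel,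
        Matrix.permMatrix_one]
    rw [wrHom_apply, Matrix.transpose_mul]
    calc blockDiagonal (fun k => θ (x.1.left k)) * Pm * blockDiagonal (fun _ => !![0, -1; 1, 0]) *
          (Pmᵀ * (blockDiagonal fun k => θ (x.1.left k))ᵀ)
        = blockDiagonal (fun k => θ (x.1.left k)) *
            (Pm * blockDiagonal (fun _ => !![0, -1; 1, 0]) * Pmᵀ) *
          (blockDiagonal fun k => θ (x.1.left k))ᵀ := by simp only [mul_assoc]
      _ = _ := by
        rw [conj_perm, mul_assoc _ Pm, h1, mul_one, Matrix.blockDiagonal_transpose, ← blockDiagonal_mul,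
          ← blockDiagonal_mul]
        congr 1
        funext k
        rw [det_mul_form, show (θ (x.1.left k)).det = 1 from (x.1.left k).1.2, one_smul]
  let f : wrSub δ (S : Subgroup (Equiv.Perm (Fin n))) →* Matrix.symplecticGroup (Fin n) F :=
    Φ.codRestrict _ hmem
  have hf : Function.Injective f := fun x y h => Subtype.ext (wrHom_injective θ hθ
    ((Matrix.reindexAlgEquiv F F (planeEquiv n)).injective (congrArg Subtype.val h)))
  have h := card_wrSub δ (S : Subgroup (Equiv.Perm (Fin n)))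
  rw [show δ.range = ⊥ from MonoidHom.range_one, Subgroup.card_bot, mul_one, card_sylow_sl2 hF Q, card_sylow_perm,
    Fintype.card_fin, ← pow_mul, ← pow_add] at h
  have hc : Nat.card f.range = 2 ^ (Nat.card (Matrix.symplecticGroup (Fin n) F)).factorization 2 := by
    rw [← Nat.card_congr (MonoidHom.ofInjective hf).toEquiv, h, Classical.card_symplecticGroup rfl n,
      factorization_two, val_sp hq hF n]
    ring
  let T : Sylow 2 (Matrix.symplecticGroup (Fin n) F) := Sylow.ofCard f.range hc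
  have φ : wrSub δ (S : Subgroup (Equiv.Perm (Fin n))) ≃* (R : Subgroup (Matrix.symplecticGroup (Fin n) F)) :=
    ((MonoidHom.ofInjective hf).trans (MulEquiv.subgroupCongr (Sylow.coe_ofCard _ _).symm)).trans (Sylow.equiv T R)
  let z : (Q : Subgroup SL2) := ⟨-1, neg_one_mem_sylow Q⟩
  have hz1 : z ≠ 1 := fun h => by
    have h' := congrArg (fun x : (Q : Subgroup SL2) => ((x : SL2) : Matrix (Fin 2) (Fin 2) F) 0 0) h
    simp [z] at h'
    exact Classical.two_ne_zero_of_odd hF (by linear_combination -h')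
  obtain ⟨E, hE, ⟨hEc, hE2⟩, hEn⟩ := exists_signs z (fun a => Subtype.ext (by simp [z]))
    (Subtype.ext (by simp [z])) hz1 (S : Subgroup (Equiv.Perm (Fin n)))
  refine ⟨E.map φ.toMonoidHom, hE.map _ φ.surjective, ⟨⟨⟨?_⟩⟩, ?_⟩, ?_⟩
  · rintro ⟨_, x, hx, rfl⟩ ⟨_, y, hy, rfl⟩
    refine Subtype.ext ?_
    show φ x * φ y = φ y * φ x
    rw [← map_mul, ← map_mul, show x * y = y * x from congrArg Subtype.val (hEc.is_comm.comm ⟨x, hx⟩ ⟨y, hy⟩)]
  · rintro _ ⟨x, hx, rfl⟩
    rw [← map_pow, hE2 x hx, map_one]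
  · rw [Fintype.card_fin] at hEn
    refine hEn.trans (le_of_eq (Nat.card_congr ?_))
    exact (E.equivMapOfInjective _ φ.injective).toEquiv

theorem le_of_elementary (hF : Odd (Fintype.card F)) (n : ℕ) (H : Subgroup (Matrix.symplecticGroup (Fin n) F))
    (E : Subgroup H) (hE : Cfsg.IsElementaryAbelian 2 E) : Nat.card E ≤ 2 ^ n := by
  rw [Nat.card_congr (E.equivMapOfInjective _ H.subtype_injective).toEquiv]
  refine sp_elementary_le hF n _ ⟨⟨?_⟩⟩ ?_
  · rintro ⟨_, x, hx, rfl⟩ ⟨_, y, hy, rfl⟩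
    exact Subtype.ext (congrArg H.subtype (congrArg Subtype.val (hE.1.is_comm.comm ⟨x, hx⟩ ⟨y, hy⟩)))
  · rintro _ ⟨x, hx, rfl⟩
    rw [← map_pow, hE.2 x hx, map_one]

end Cfsg.Agent.NormalRank
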